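import Cfsg.Agent.ClassicalGeometry.PSL2Basic
import Cfsg.Agent.ClassicalGeometry.PSL2Trace

/-!
# Elements of order 2 and 3 of `PSL₂(F)`: upper bounds (helper801)
-/

set_option autoImplicit false

namespace Cfsg.Agent.H801.LT

open Matrix
open Cfsg.Agent.ClassicalGeometry.PSL2Basic Cfsg.Agent.ClassicalGeometry.PSL2Trace

variable {F : Type*} [Field F] [Fintype F] [DecidableEq F]

/-- the elements of `SL₂(F)` of trace `t` -/
def trSet (F : Type*) [Field F] (t : F) : Set (SpecialLinearGroup (Fin 2) F) :=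
  {M | (M : Matrix (Fin 2) (Fin 2) F).trace = t}

theorem trSet_ncard (t : F) : (trSet F t).ncard ≤ Fintype.card F * Fintype.card F + Fintype.card F := by
  classical
  set q := Fintype.card F with hq
  -- the code: (a, b) if b ≠ 0, (a, c) with a a root of the characteristic polynomial if b = 0
  have hroots : (Finset.univ.filter fun a : F => a * (t - a) = 1).card ≤ 2 := by
    have h1 : (Polynomial.X ^ 2 - Polynomial.C t * Polynomial.X + Polynomial.C 1 : Polynomial F).degree = 2 := by
      compute_degree!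
    have hne : (Polynomial.X ^ 2 - Polynomial.C t * Polynomial.X + Polynomial.C 1 : Polynomial F) ≠ 0 := by
      intro h
      rw [h, Polynomial.degree_zero] at h1
      exact absurd h1 (by decide)
    have h2 := Polynomial.card_roots' (Polynomial.X ^ 2 - Polynomial.C t * Polynomial.X + Polynomial.C 1 : Polynomial F)
    have h3 : (Polynomial.X ^ 2 - Polynomial.C t * Polynomial.X + Polynomial.C 1 : Polynomial F).natDegree = 2 :=
      Polynomial.natDegree_eq_of_degree_eq_some h1
    rw [h3] at h2
    refine le_trans ?_ ((Multiset.toFinset_card_le _).trans h2)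
    apply Finset.card_le_card
    intro a ha
    rw [Finset.mem_filter] at ha
    rw [Multiset.mem_toFinset, Polynomial.mem_roots hne, Polynomial.IsRoot.def]
    simp only [Polynomial.eval_add, Polynomial.eval_sub, Polynomial.eval_pow, Polynomial.eval_X, Polynomial.eval_mul,
      Polynomial.eval_C]
    linear_combination -ha.2
  let f : SpecialLinearGroup (Fin 2) F → (F × F) ⊕ (F × F) := fun M =>
    if M 0 1 = 0 then Sum.inr (M 0 0, M 1 0) else Sum.inl (M 0 0, M 0 1)
  let T : Finset ((F × F) ⊕ (F × F)) :=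
    (((Finset.univ : Finset F) ×ˢ (Finset.univ.erase (0 : F))).disjSum
      ((Finset.univ.filter fun a : F => a * (t - a) = 1) ×ˢ (Finset.univ : Finset F)))
  have hT : T.card ≤ q * q + q := by
    have h1 : T.card = q * (q - 1) + (Finset.univ.filter fun a : F => a * (t - a) = 1).card * q := by
      rw [Finset.card_disjSum, Finset.card_product, Finset.card_product, Finset.card_univ,
        Finset.card_erase_of_mem (Finset.mem_univ _), Finset.card_univ]
    rw [h1]
    have h2 : (Finset.univ.filter fun a : F => a * (t - a) = 1).card * q ≤ 2 * q := Nat.mul_le_mul_right _ hroots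
    have h3 : 0 < q := Fintype.card_pos
    obtain ⟨k, hk⟩ : ∃ k, q = k + 1 := ⟨q - 1, by omega⟩
    rw [hk] at h2 ⊢
    have h4 : (k + 1) * (k + 1 - 1) = k * k + k := by
      rw [Nat.add_sub_cancel]; ring
    rw [h4]
    nlinarith
  have hdet : ∀ M : SpecialLinearGroup (Fin 2) F, M 0 0 * M 1 1 - M 0 1 * M 1 0 = 1 := fun M => by
    have := M.det_coe
    rwa [det_fin_two] at this
  have htr : ∀ M ∈ trSet F t, M 1 1 = t - M 0 0 := fun M hM => by
    have h1 : (M : Matrix (Fin 2) (Fin 2) F).trace = t := hM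
    rw [Matrix.trace_fin_two] at h1
    rw [← h1]; ring
  refine le_trans ?_ hT
  rw [← Set.ncard_coe_finset]
  refine Set.ncard_le_ncard_of_injOn f ?_ ?_ (Finset.finite_toSet T)
  · intro M hM
    have h1 := hdet M
    rw [htr M hM] at h1
    rw [Finset.mem_coe]
    by_cases h0 : M 0 1 = 0
    · have e : f M = Sum.inr (M 0 0, M 1 0) := if_pos h0
      rw [e, Finset.inr_mem_disjSum, Finset.mem_product]
      refine ⟨?_, Finset.mem_univ _⟩
      rw [Finset.mem_filter]
      refine ⟨Finset.mem_univ _, ?_⟩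
      rw [h0, zero_mul, sub_zero] at h1
      exact h1
    · have e : f M = Sum.inl (M 0 0, M 0 1) := if_neg h0
      rw [e, Finset.inl_mem_disjSum, Finset.mem_product]
      exact ⟨Finset.mem_univ _, Finset.mem_erase.2 ⟨h0, Finset.mem_univ _⟩⟩
  · intro M hM N hN e
    have hM1 := hdet M
    have hN1 := hdet N
    have hM2 := htr M hM
    have hN2 := htr N hN
    have key : M 0 0 = N 0 0 ∧ M 0 1 = N 0 1 ∧ M 1 0 = N 1 0 := by
      by_cases h0 : M 0 1 = 0
      · have e1 : f M = Sum.inr (M 0 0, M 1 0) := if_pos h0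
        by_cases h0' : N 0 1 = 0
        · have e2 : f N = Sum.inr (N 0 0, N 1 0) := if_pos h0'
          rw [e1, e2] at e
          have e3 := Sum.inr_injective e
          exact ⟨congrArg Prod.fst e3, h0.trans h0'.symm, congrArg Prod.snd e3⟩
        · have e2 : f N = Sum.inl (N 0 0, N 0 1) := if_neg h0'
          rw [e1, e2] at e
          exact absurd e (by simp)
      · have e1 : f M = Sum.inl (M 0 0, M 0 1) := if_neg h0
        by_cases h0' : N 0 1 = 0
        · have e2 : f N = Sum.inr (N 0 0, N 1 0) := if_pos h0'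
          rw [e1, e2] at e
          exact absurd e (by simp)
        · have e2 : f N = Sum.inl (N 0 0, N 0 1) := if_neg h0'
          rw [e1, e2] at e
          have e3 := Sum.inl_injective e
          have e4 : M 0 0 = N 0 0 := congrArg Prod.fst e3
          have e5 : M 0 1 = N 0 1 := congrArg Prod.snd e3
          refine ⟨e4, e5, ?_⟩
          apply mul_left_cancel₀ h0
          rw [hM2] at hM1
          rw [hN2, ← e4, ← e5] at hN1
          linear_combination hN1 - hM1
    apply coe_inj
    ext i j
    fin_cases i <;> fin_cases j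
    · exact key.1
    · exact key.2.1
    · exact key.2.2
    · show M 1 1 = N 1 1
      rw [hM2, hN2, key.1]

/-- the projection -/
abbrev pr : SpecialLinearGroup (Fin 2) F →* ProjectiveSpecialLinearGroup (Fin 2) F :=
  QuotientGroup.mk' (Subgroup.center (SpecialLinearGroup (Fin 2) F))

omit [Fintype F] [DecidableEq F] in
theorem pr_eq_one {M : SpecialLinearGroup (Fin 2) F} : pr M = 1 ↔ M = 1 ∨ M = -1 := by
  rw [← mem_center_SL2_iff]
  exact QuotientGroup.eq_one_iff _

omit [Fintype F] [DecidableEq F] in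
theorem pr_neg (M : SpecialLinearGroup (Fin 2) F) : pr (-M) = pr M := by
  have h : -M = -1 * M := by rw [neg_mul, one_mul]
  rw [h, map_mul, pr_eq_one.2 (Or.inr rfl), one_mul]

omit [Fintype F] [DecidableEq F] in
/-- a lift of an element of order 2 has trace 0 -/
theorem lift_two {M : SpecialLinearGroup (Fin 2) F} (h1 : pr M ≠ 1) (h2 : pr M ^ 2 = 1) : M ∈ trSet F 0 := by
  rw [← map_pow] at h2
  have h3 := pr_eq_one.1 h2
  show (M : Matrix (Fin 2) (Fin 2) F).trace = 0
  by_contra ht
  have h4 : M ∉ Subgroup.center (SpecialLinearGroup (Fin 2) F) := fun h => h1 (pr_eq_one.2 (mem_center_SL2_iff.1 h))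
  exact sq_notMem_center ht h4 (mem_center_SL2_iff.2 h3)

omit [Fintype F] [DecidableEq F] in
/-- an element of order 3 has a lift of trace `-1` -/
theorem lift_three {M : SpecialLinearGroup (Fin 2) F} (h1 : pr M ≠ 1) (h2 : pr M ^ 3 = 1) :
    M ∈ trSet F (-1) ∨ -M ∈ trSet F (-1) := by
  have key : ∀ N : SpecialLinearGroup (Fin 2) F, pr N ≠ 1 → N ^ 3 = 1 → N ∈ trSet F (-1) := by
    intro N hN h3
    have h4 : (N : Matrix (Fin 2) (Fin 2) F) ^ 3 = 1 :=
      (Matrix.SpecialLinearGroup.coe_pow N 3).symm.trans (congrArg Subtype.val h3)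
    set t := (N : Matrix (Fin 2) (Fin 2) F).trace with ht
    have h5 : (t ^ 2 - 1) • (N : Matrix (Fin 2) (Fin 2) F) = (t + 1) • 1 := by
      have h6 : (N : Matrix (Fin 2) (Fin 2) F) ^ 3 = (t ^ 2 - 1) • (N : Matrix (Fin 2) (Fin 2) F) - t • 1 := by
        rw [pow_succ, coe_sq, ← ht, sub_mul, smul_mul_assoc, one_mul, ← pow_two, coe_sq, ← ht, smul_sub, smul_smul,
          sub_smul, one_smul, pow_two]
        abel
      rw [h6] at h4
      rw [sub_eq_iff_eq_add.1 h4, add_smul, one_smul, add_comm]
    show t = -1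
    by_contra hcon
    have hc1 : t + 1 ≠ 0 := fun h => hcon (by linear_combination h)
    by_cases h7 : t ^ 2 - 1 = 0
    · rw [h7, zero_smul] at h5
      have h8 := congrFun (congrFun h5 0) 0
      rw [Matrix.zero_apply, Matrix.smul_apply, Matrix.one_apply_eq, smul_eq_mul, mul_one] at h8
      exact hc1 h8.symm
    · have h8 : N ∈ Subgroup.center (SpecialLinearGroup (Fin 2) F) := by
        rw [mem_center_iff_exists]
        refine ⟨(t ^ 2 - 1)⁻¹ * (t + 1), ?_⟩
        rw [mul_smul, ← h5, smul_smul, inv_mul_cancel₀ h7, one_smul]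
      exact hN (pr_eq_one.2 (mem_center_SL2_iff.1 h8))
  rw [← map_pow] at h2
  rcases pr_eq_one.1 h2 with h3 | h3
  · exact Or.inl (key M h1 h3)
  · refine Or.inr (key (-M) (by rwa [pr_neg]) ?_)
    rw [Odd.neg_pow (by decide), h3, neg_neg]

/-- the elements of order 2 -/
def I2 (F : Type*) [Field F] : Set (ProjectiveSpecialLinearGroup (Fin 2) F) := {x | x ≠ 1 ∧ x ^ 2 = 1}

/-- the elements of order 3 -/
def I3 (F : Type*) [Field F] : Set (ProjectiveSpecialLinearGroup (Fin 2) F) := {x | x ≠ 1 ∧ x ^ 3 = 1}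

theorem I2_ncard : (I2 F).ncard ≤ Fintype.card F * Fintype.card F + Fintype.card F := by
  refine le_trans ?_ (trSet_ncard (0 : F))
  have h : I2 F ⊆ pr '' trSet F 0 := by
    rintro x ⟨h1, h2⟩
    obtain ⟨M, rfl⟩ := QuotientGroup.mk'_surjective _ x
    exact ⟨M, lift_two h1 h2, rfl⟩
  exact (Set.ncard_le_ncard h (Set.toFinite _)).trans (Set.ncard_image_le (Set.toFinite _))

theorem I3_ncard : (I3 F).ncard ≤ Fintype.card F * Fintype.card F + Fintype.card F := by
  refine le_trans ?_ (trSet_ncard (-1 : F))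
  have h : I3 F ⊆ pr '' trSet F (-1) := by
    rintro x ⟨h1, h2⟩
    obtain ⟨M, rfl⟩ := QuotientGroup.mk'_surjective _ x
    rcases lift_three h1 h2 with h | h
    · exact ⟨M, h, rfl⟩
    · exact ⟨-M, h, pr_neg M⟩
  exact (Set.ncard_le_ncard h (Set.toFinite _)).trans (Set.ncard_image_le (Set.toFinite _))

/-- in odd characteristic every element of order 2 has two lifts of trace 0 -/
theorem I2_ncard_odd (h2 : (2 : F) ≠ 0) : 2 * (I2 F).ncard ≤ Fintype.card F * Fintype.card F + Fintype.card F := by
  classical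
  refine le_trans ?_ (trSet_ncard (0 : F))
  have : Fintype (SpecialLinearGroup (Fin 2) F) := Fintype.ofFinite _
  have : Fintype (ProjectiveSpecialLinearGroup (Fin 2) F) := Fintype.ofFinite _
  set s : Finset (SpecialLinearGroup (Fin 2) F) := (trSet F 0).toFinset with hs
  have h3 : 2 * (s.image pr).card ≤ s.card := by
    apply Finset.mul_card_image_le_card
    intro b hb
    obtain ⟨M, hM, rfl⟩ := Finset.mem_image.1 hb
    have hne : M ≠ -M := by
      intro h
      have h4 : (1 : SpecialLinearGroup (Fin 2) F) = -1 := by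
        have h5 : M * M⁻¹ = -M * M⁻¹ := by rw [← h]
        rwa [neg_mul, mul_inv_cancel] at h5
      exact neg_one_ne_one_SL2 h2 h4.symm
    have h4 : ({M, -M} : Finset (SpecialLinearGroup (Fin 2) F)) ⊆ s.filter fun a => pr a = pr M := by
      intro x hx
      rw [Finset.mem_insert, Finset.mem_singleton] at hx
      rw [Finset.mem_filter]
      rcases hx with rfl | rfl
      · exact ⟨hM, rfl⟩
      · refine ⟨?_, pr_neg M⟩
        rw [hs, Set.mem_toFinset] at hM ⊢
        show ((-M : SpecialLinearGroup (Fin 2) F) : Matrix (Fin 2) (Fin 2) F).trace = 0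
        rw [SpecialLinearGroup.coe_neg, Matrix.trace_neg, neg_eq_zero]
        exact hM
    refine le_trans ?_ (Finset.card_le_card h4)
    rw [Finset.card_pair hne]
  have h5 : (I2 F).ncard ≤ (s.image pr).card := by
    rw [← Set.ncard_coe_finset]
    refine Set.ncard_le_ncard ?_ (Finset.finite_toSet _)
    rintro x ⟨h1, h2⟩
    obtain ⟨M, rfl⟩ := QuotientGroup.mk'_surjective _ x
    rw [Finset.mem_coe, Finset.mem_image]
    exact ⟨M, by rw [hs, Set.mem_toFinset]; exact lift_two h1 h2, rfl⟩
  have h6 : s.card = (trSet F 0).ncard := by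
    rw [← Set.ncard_coe_finset, hs, Set.coe_toFinset]
  omega

end Cfsg.Agent.H801.LT
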